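/-!
Numerical tables for the twelve-dimensional representation of `U₃(4)` in characteristic five.
-/

set_option autoImplicit false

namespace CfsgLib.Spectrum.U34

/-- Products in the field with 16 elements, four bits each. -/
def mulTab : Nat := 0xa5783ce1b4692df05ba48679c23d1fe07ae36bf258c149d0843fd16a2e957bc0386d92c74f1ae5b0c6b1285f394ed7a0e7f6c5d4a3b28190192a7f4cd5e6b380bc5243ad618f9e70428ef93517dbac6063c914be8d27fa509d15ae26fb73c8402147ed8b9afc5630df9b5713eca86420fedcba98765432100000000000000000

/-- Inverses in the field with 16 elements, four bits each. -/
def invTab : Nat := 0x834a5c2f67bde910

/-- Fourth powers in the field with 16 elements, four bits each. -/
def frobTab : Nat := 0x89badcef76452310

/-- The 416 frames, three points of twelve bits each. -/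
def frameTab : Nat := 0x1df1ee1fd1dc1e61fb1da1e51f71d81e41f31d11e91f21af1c51fe1ae1bb1ea1ac1c41f61aa1c61f51a91b71ef1a81c91f41a61b21e81a51b31ec1a41bd1e11a11ce1f919f1c61d319c1c91dd19a1c41d21981ce1d71911c51db18f1a71f318e1a91c118d1cb1f118d1961ba18c1a31fd18b1c21fa18b1991b818a1ab1f21891a41c81881a21f71871c31ff1871941bc1861a51ca1851ae1cf1841a61cc1831cd1fc18319e1b11821c71f81821951bf1811ad1fb17d1b21cf17d1aa1d717d1911f417d1891ec17b1b71cc17b1a81d317b19a1fe17b1851e11771bd1ca1771ac1db17719f1f917718e1e81731bb1c81731a11d217319c1f51731861ef1721b31c11721af1dd1721981f61721841ea16e1bf1cd16e1a31d116e1941fa16e1881e616c16e1701691b11c21691ab1d81691961ff16918c1e516916a1701661bc1cb1661ad1da16619e1f816618f1e91651ba1c71651a21df1651991fc1651811e41651681701641b81c31641a71dc1641951f116418a1ee16416f17016116617016017b17f16017817d16017317a16017217c16017117715f1e81f115f16c1aa15e1961c815e17f1ad15c1ef1fa15c1611a815c15e1d015a1e11ff15a1681ac1591951cc1591711a215915a1d01581ea1fc15816f1a11561991cf15617c1ab1551941c115517a1a71551581d015419e1ca1541781a315415f1d01511ec1f815116a1af1511561d01501db1df1501d81dd1501d31da1501d21dc1501d11d714f18a19c14f1681c114e1aa1e414e1711c314c18819114c16f1ca14c14e1b014a18c19814a1611cf1491af1e61491781cb14914a1b014818119f14816a1cc1461a81ee14617a1cd1451ac1e914517f1c21451481b01441a11e514417c1c714414f1b014118f19a14116c1c81411461b01401bb1bf1401b81bd1401b31ba1401b21bc1401b11b713f1cc1d113f17a1f813f14e18d13d18a1b713d16c1f913d1511c413c1c11da13c1781ff13c14618b13b1881b313b1611f513b15a1ce13b13f19013a1c81df13a17c1f113a1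451871381cf1dc1381711fa13814418313813d19013718c1bb1371681fe13715f1c91331811b213316f1f613315c1c513313a19013218f1bd13216a1f41321581c613213c1901311ca1d813117f1fc13114918213113719013019c19e13019919a13019519813019419f13019119612f1a81ba12f17118c12f1551f212d1d21ff12d16118412d14c1a912c1af1b812c17a18112c1541f712b1d71fc12b16a18e12b1411a512b12f1e012a1a11bc12a17f18812a1561fd1281aa1b112817c18f1281591fb12812d1e01271dd1fa12716f1891271481ae1231db1f812316c18512314f1a612312a1e01221d31f112216818612214a1a412212c1e01211ac1bf12117818a12115e1f31211271e01201ec1ee1201e91ea1201e51e81201e41ef1201e11e611f1bc1d811f1a31c711f1911ea11f18e1f511f14615911f12213d11e1a51ff11e1811c911e1581b711e14a1db11d1cc1f311d18b1a111d13a1e611d12f19e11c1b11df11c1ad1c311c19a1e811c1861f411c14915511c12713b11b1c11fd11b1821aa11b1381e911b12c19611a1b81d111a1a21cb11a19f1ec11a1851f611a14415e11a12d1371191ae1f11191881c411915c1bd11914f1d71181bf1da1181a71c211819c1e11181841f911814e15611812b1331171c81f21171831af11713c1e411712a1951161a41fc11618a1c511615f1b31161481d21151a61fa11518f1ce1151511bb11514c1d31141a91f811418c1c611415a1b21141411dd1131cf1f711318d1ac1131311ee1131281941121ca1fb1121871a811213f1e51121211991111ba1dc1111ab1cd1111981ef1111891fe11114515411112313210e1b21f210e1821d210e1321a210e1221c210e11217210d1c51e510d1951a510d15518510d1451f510d11516510b1c41e410b1941a410b15418410b1441f410b1141641091b31f31091831d31091331a31091231c31091131731071c61e61071961a61071561861071461f61071161661061b71f71061871d71061371a71061271c71061171771051bd1fd10518d1dd10513d1ad10512d1cd10511d17d1041bb1fb10418b1db10413b1ab10412b1cb10411b17b1031c91e91031991a91031591891031491f91031191691021ce1ee10219e1ae10215e18e10214e1fe10211e16e01e1cb1ef01e1911a701e15a18301e1481fd01e11216c01d1b11f601d18e1dc01d13f1a401d12a1c901d11517801b1ba1f901b1861d101b13c1ae01b1281c501b11417f0191c71e10191981ad01915f18b01914c1f201911316a0171bf1f40171851d801713a1a901712c1ce0171161710161c21ec01619a1a301615818d01614f1fb0161171610160171000151c31ea01519f1ab01515c1820151411f701511d16801501d1000141cd1e801419c1a201415118701414a1f301411b16f01401b1000131bc1fe0131841df0131381a50131211c601311917a0130191000121b81f50121891da0121311a601212f1c401211e17c01201e10001010610701010510d01010410b01010310901010210e0011601700011501d00011401b00011301900011201e0001010100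

/-- Images of frames under the first generator: index and permutation. -/
def imgATab : Nat := 0x2df98547f713b58b6e4e48b42cd8baaf235a72133036b289ab24b678399889d71e573b0a7354de729b56932119376b49093b4e55b6740c73000fd35374c4cc6f17228bcb94b6c74532d50448732e4e656918f49571c6b06c41206eb103102101a352ce2d02d167e63494a6e94d354290cae16795556375288a190919ba3663321c01801b01921a11a6cb37b17c13e48363f54470507b07c63da77b6874f78bb1daa06418d28a5a3e92318c64020d20c20e21020f24b24805705905c25da0a06806524f04c60826a06e073271053252609260264a07044245606002004203205201b9db8285aabd999ab7ae84a447210f48211061f2ac2af451950581861622ae376d91b5516c553da1e13f6f014162093667884ea2123923b03a23823cb0b98075979788445fb2cb5439fa76b9a843a16b487187340bf2c047a6134b357f86d29a09b44761217d6948676150f64a32f761402f23102e03203054736736516686f1649259526bb86971476a8ae6d42d52d82d749244d2d60a72a62aa2ab52ab728866c6863b9013cab513a4496e789c2f30f54582f4b578ca97ab0867531711546b55c543ae245e36016155f84254d7061848c19379776814f990daee59276f45589934b4ff5406dd71f6809071894541884b8b317878625627124c8126498127786b5ea968709164be974a9f99372f7336b11396ec3388e538e9117714a997899e87d850acf09108e09045628f57069eac986c37e6c30db2d90da6a290e4979798c256328b08d08a45b08c6ef2fb4ad2fc0fa8dc58a39684a685a2b78d888afe446591a2a8edb95b758668a8a2d5466e07244f853ba2952baeab5dab919ca2c22802602722502481780b800a1da11823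

/-- Images of frames under the second generator: index and permutation. -/
def imgBTab : Nat := 0x47e75530174239baca8865060a6365b772f32d759256a4cb68350596838cb4356714e14f96195b87b5172ee2b5a936d24d837269c53257b31e31d752b958a8b758ed69e37eac957008d08c08a28b888591afe78d58a6853968dcb315627874b8627b5e916a9678662808e28f09009199eacf87d978a25907188189680a26a2402c02d22a22b229545aa9b8b99c32011f6196959276a0b3ba1b52253847c8fa2a50a261857cb6361c12e12f61a23423323523723673d5268aab248b7539a2234114037a379a20b1b69fa818d958475da212ae0ad61e31031161f03803a03b23903c4a18db75059858eb04b03a9739d8b6affb69a106d04fb7360e10e04ac60d689ac83940b20b10b060c383774acc60f2e92ea2e860e03f03d04123e0400f90f84a3694add7647084da71857f393ad6a14ad46b99808ab8fcb54a15884aec590b9ab71af4a1609b0980996122c12c22c061322e22f2302312328d356072370038249aa920f20f10f049d3141134f76d1725b44776aa4197335aa74df13450993c91a9734af97d0c64b40c40c5b02b5c93e8deb81ab315615735815916f16e36c16d8f576ba877999666cd98fa82b1994da7f59f753537785a7a27907527727407827604b04824904704a24f24d04c24e05005325525205125424404504224324605725805925a25625c05d25e05f25b26826506926706606a26e26b26d06c07306f2710720702600632642610620e40e20e62e30e510a10c10d30b10e32932832a32c32b2ba2bb2bc2bd2be14914a34734834695a95fb4cb51b4ba05b21b15b1c90f912a03930b3a92d93f933a04ac7acead58bf8c3a01afd8eb8e78f68efa0220a208209206207a23a17a1da0ba11a00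

/-- The twelve basis functions. -/
def basisTab : Nat := 0x20000000004000000000800000000100000092400000000020000000004000000000800000000100000000020000000004000000000800000000100010082400082410061200b2d14c25242a060b5026e36c16902889126198213192929248c44426e205c6c32a12cb71201448c4630187225186d00d364b60188321a2c322110b6d129b09a51330a6892d44d80d36922526d04a124452429a6246d921468a45461a5100db0497080224a309491488241c21970870b2898534cc2c392031c31a40989a04041390a0848213138088dc08c51a11909908081c4c188060829c22224c3100518c365000060c7120202135194514ca28b29b5198a104040c60a10070b88b45c9084dc32251c8d904081892488020300049c51c01c2db7104a350c2d12436424100012892640004910d970049a11444340c6e12c129b2d00080a042300026285b80321a41b21a50c2d820004401a00030350c30926271946450c6e26d201a4110400c03230008484c348a1114c26634cc4d181451232142401848a60980a8c82433140c88144e18e42c141c24449b50b92370b44c0e06a14910cb61910126000064b84890a40c8c885a2837226094a18cb4c144c2ca8d151c9110d230862300005b48a49b2634a37124cc8e465432225b2c320086100001428c8948843080008d282021969131c49882031100061381c24344b91a60a40c2c42e28c84c12c18996a149b61b6422c101a6104248d20902196c26199020506db9218991115188044e331a50c8d470900881340830a2cc2cc6a03141221134208db2d07200d44c92a145c40c0cb6ca10120b2c84836130504238db29430c61068c44c6c050a8a491166248c6d281308064b4d30908e02a34cc0c170228062011421b8d40814444422d306165a64861b8624d345c0448a02634895208190a111466225112264c88001c6594082d901c29490025052368960a09a4844ca5096915188d18034022ca6d085264a2094a32dc85c2d425b41b70c0518581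2229b11b85288c30904b8e08827136530242ca2e248a42488c09b88b8488044c444c8c30104d181168152225b25b8828514946223028d84404228da6220e16c34814116c28186e28a30836831142dc8e26890cb84c0534107006d089c4148d382124185991a48841272384c84a0e061c40b9018c370c8a30522942c96e041c84868c4d211120081269a50a6d19112cc2e369990a05829400009380a45c5032140400d32196ca50b3132d371151260a8526920006db8426484cc8d82a32db6e10086024227022946e131a11a6120010d849870932368a04b6216a329460c49871271b6540000d88895182146c270b64260400091209305944c4d00d44cb1104c10d30210006c260a8a040c6dc6620506c292471b45081368c88b4d37212a152029a52269a8130530598938521228d30422c82da50044325231b48c4a468c21c48c4c446090b31820025a4c02926d130a25291912330a1202012cc85b24c4c12218d944b08181a0006138500d30c04118242a36904644a301b41c65941c84344c2db86361c6a104001a10a1184cb90c4600c024200080b4440941002119046115134a32da4c329b69089931148c0e21112e04910084a30016202148ca2444c484405c0046240d48d406070b09330c21a09a50431910b4cb48b4cc4c344b71125100131990c0c42e389a4e304842400089265b51000062120164c69822128a2ca68a3098582d364a4127129114a362425032072204010c29481389890a45b45a8c44238c970884041151801364460a6e22201118641130008930202cb1006222402146cb8632c060c00005c28b4d810021800948b9146632991228834428d34e448c0db4e39026629242d291b24c64c4a024c6411238e22a10d46642db8846e26848d868332264380425a7234a401c29a48a0932520d960171a09b4514e390029a31841a8d225c01c8db0446908d82592d928331c0c46ca2840e111350225a40a90930224268c42220331224131a32221b6d34627009146408a22144624144dc32262089825a8518516996a385a22081161871425b491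4c82922542626914db65022270c0636894484944848c80dc1188e34a485862241b4440942ca85c24c71341b45c9210242da5146438cb4483098130a309a8e34988822e244c20921a71148385382280364a22165870a4906d08488da40885365c6a388b44991285444481160a4948514916c02402594c02d905a91841a71345a69020209201111409482401a0ca6d021270c4838cb2506584c809b20205b6818db85365022291205c6c109385b6898a36986918888d200949b00188225951364391246109a6c46c38646d361208185385425a11c08960b85329330225464b0e120311361c9196a405081344b44485380161289b06185c6017138584dc10205245c2519218936546647138434c270a60c6e28988508e22e264b32172224020152280c09b29a8dc4a49136190d96985006e36cb0492823230819040d291b41446340c21b01c4998a228c1024409128026e060c08c4886028228c38d22880520132194110906d384c4527084638d384a70a31a5192d49134590008d384a2d40c080a00025a714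

/-- The frames at which the basis is dual. -/
def pivotTab : Nat := 0xcfe7b3b9ccd6673197cb6572993

/-- The matrix of the first generator. -/
def repATab : Nat := 0x62384c3202d46936548a04132046d22910e24c189a26044a05869c6403146928c06494132d384b4e22008e391060c84a01c858290000

/-- The matrix of the second generator. -/
def repBTab : Nat := 0x86071068a80031c46002046351c0200a02a381b8929190590432dc6096e131b3132db70b42448465241145c3038d10d14cb48869c29b

/-- The inverse of the matrix of the first generator less one. -/
def fpfTab : Nat := 0x81c90805889925065b49b61329b6638020e32d80cb4d460380400a4832224a350b4a26840d12042144d96a049484264311b41320c4c8

/-- The isotropic points. -/
def isoList : List Nat := [17, 24, 26, 28, 31, 257, 264, 266, 268, 271, 272, 292, 293, 294, 297, 302, 308, 309, 310, 313, 318, 322, 323, 327, 331, 333, 338, 339, 343, 347, 349, 354, 355, 359, 363, 365, 372, 373, 374, 377, 382, 384, 402, 403, 407, 411, 413, 416, 436, 437, 438, 441, 446, 448, 468, 469, 470, 473, 478, 482, 483, 487, 491, 493, 496]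

/-- Words for the transvections: point, scalar and word. -/
def wordList : List (Nat × Nat × List Bool) := [
  (17, 1, [false, false, false, true, false, false, false, true, false, false, false, false, false, true, false, false, false, true, false, false]),
  (17, 6, [true, false, false, false, false, false, false, false, false, true, false, false, false, false, false, true]),
  (17, 7, [false, true, false, false, true, false, false, true, false, true, false, false, false, false, true, false, true, false, false, true, false, false, true]),
  (24, 1, [true, false, false, true, false, false, false, true, false, false, false, false, false, true, false, false, false, true, false, false, false, true]),
  (24, 6, [false, false, false, false, false, true, false, false, false, false, false, false, false, false]),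
  (24, 7, [false, false, true, false, false, true, false, true, false, false, false, false, true, false, true, false, false, true, false, false, true, false, true]),
  (26, 1, [false, true, false, false, false, false, false, true, false, false, false, false, false, false, false, false]),
  (26, 6, [true, false, false, false, false, false, true, false, false, true, false, false, false, true, false, false, true, false, false, false, false, false]),
  (26, 7, [false, false, false, false, false, false, false, true, false, false, false, true, false, true, false, false, false, true, false, true, false, false, false, true, false]),
  (28, 1, [false, true, false, true, false, false, true, false, false, true, false, true, false, false, false, false, true, false, true, false, false, true, false]),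
  (28, 6, [true, false, true, false, false, false, true, false, false, false, true, false, true, false, false, false, true, false, true, false, false, false]),
  (28, 7, [false, false, false, false, false, false, false, false, false, true, false, false, false, false]),
  (31, 1, [true, false, false, false, true, false, true, false, true, false, false, false, true, false, true, false, false, false, false, true, false, true, false]),
  (31, 6, [true, false, false, false, true, false, true, false, false, false, true, false, true, false, false, false, true, false, false, false, true, false]),
  (31, 7, [true, false, false, false, false, false, false, false, false, true, false, false, false, false]),
  (257, 1, [true]),
  (257, 6, [false, false, true, false, false, false, false, true, false, false, true, false, true, false, false, true, false, true, false, false, false, true, false, false]),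
  (257, 7, [false, true, false, false, false, false, false, false, false, true, false, false, false, true, false, false, false, false, false, false, false, true, false]),
  (264, 1, [false, true, false, false, false, false, false, true, false, false, false, false, false, true, false, false, true, false, false, false, true, false]),
  (264, 6, [false, true, false, false, true, false, false, false, false, true, false, true, false, false, false, false, true, false, false, true, false]),
  (264, 7, [true, false, false, false, true, false, false, false, true, false, true, false, false, false, false, true, false, true]),
  (266, 1, [false, false, true, false, false, false, false, false, false, false, false, true, false, false]),
  (266, 6, [true, false, false, false, false, false, false, false, true, false, true, false, false, false, false, false, true, false, false, true]),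
  (266, 7, [false, false, false, false, true, false, false, false, true, false, true, false, false, false, true, false, true, false, false, false, true, false, false, false, false]),
  (268, 1, [true, false, false, true, false, false, false, false, false, false, false, false, true, false, false, true]),
  (268, 6, [false, false, false, false, false, false, false, true, false, true, false, false, false, false, false, true, false, false]),
  (268, 7, [false, false, false, false, true, false, true, false, false, false, true, false, true, false, false, false, false, false, true, false, false, false, false, false, true, false]),
  (271, 1, [true, false, true, false, false, false, false, false, true, false, false, false, false, false, true, false, false, true, false, false, false, true, false, true]),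
  (271, 6, [false, false, false, false, false, false, false, true, false, true, false, false, true, false, true, false, false, false, false, false, false, false]),
  (271, 7, [false, false, false, true, false, false, false, true, false, true, false, false, false, false, true, false]),
  (272, 1, [true, false, false, false, true, false, false, false, true, false, false, false, false, false, true, false, false, false, true, false, false, true]),
  (272, 6, [false, false, false, false, false, false, false, false, true, false, false, false, false, false]),
  (272, 7, [false, false, true, false, true, false, false, true, false, false, false, true, false, false, true, false, false, true, false, true, false, false, true]),
  (292, 1, [false, false, false, false, false, false, false, false, false, false, false, true, false, false]),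
  (292, 6, [false, false, true, false, true, false, true, false, false, false, false, true, false, true, false, false, false, true, false, true, false, true, false]),
  (292, 7, [false, false, true, false, true, false, false, false, true, false, false, false, true, false, true, false, false, false, true, false, true, false]),
  (293, 1, [true, false, false, false, false, false, false, true, false, false, false, false, true, false, false, true]),
  (293, 6, [false, false, false, false, false, false, false, false, false, false, false, true, false, true, false, false, true, false, true, false, false, false]),
  (293, 7, [false, false, false, false, false, true, false, false, false, false, true, false, true, false, false, false, false, true, false, true, false, true, false, true]),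
  (294, 1, [false, false, false, false, true, false, false, true, false, false, true, false, false, false, false, true]),
  (294, 6, [false, false, true, false, true, false, false, true, false, false, true, false, true, false, true, false, true]),
  (294, 7, [false, false, false, false, false, true, false, false, true, false, false, false, true, false, false, false, false, false, true, false, false, true, false, true]),
  (297, 1, [false, true, false, true, false, true, false, false, true]),
  (297, 6, [false, false, true, false, false, true, false, true, false, false, false, false, false, true, false, true, false, false, true, false, false, false]),
  (297, 7, [true, false, false, false, true, false, true, false, false, false, true, false, false, false, true, false, true, false, false, false, true, false]),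
  (302, 1, [false, false, true, false, true, false, true, false, true]),
  (302, 6, [true, false, true, false, false, false, true, false, true, false, true, false, false, false, false, true, false, true, false, false, false, true, false]),
  (302, 7, [true, false, true, false, false, false, true, false, true, false, false, false, true, false, false, false, true, false, true, false, false, false]),
  (308, 1, [false, false, false, false, false, true, false, false, false, false, false, true, false, false, true, false, false, false, true, false, false, true]),
  (308, 6, [false, false, true, false, false, false, false, true, false, true, false, false, false, false, true, false, false, true, false, false, true]),
  (308, 7, [false, false, false, false, false, false, true, false, false, false, false, false, true, false, false, false]),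
  (309, 1, [true, false, false, false, true, false, false, true, false, false, true, false, false, false, false, true, false, true]),
  (309, 6, [true, false, true, false, true, false, false, true, false]),
  (309, 7, [false, true, false, false, true, false, true, false, false, false, false, false, true, false, true, false, false, true, false, false, false, false]),
  (310, 1, [false, false, false, false, false, true, false, false, false, false, false, true, false, false, false, false]),
  (310, 6, [false, false, false, false, true, false, false, false, false, false, true, false, false, true, false, false, false, true, false, false, true, false]),
  (310, 7, [false, false, true, false, false, true, false, false, true, false, false, false, false, true, false, true, false, false, false, false, true]),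
  (313, 1, [true, false, false, false, true, false, false, false, true, false, false, false, false, false, false, false, true, false, true, false, true, false, false, false, false, true]),
  (313, 6, [false, false, false, false, false, false, false, false, true, false, true, false, false, true, false, true, false, false, false, false, false, false]),
  (313, 7, [false, false, false, false, true, false, false, false, true, false, true, false, false, false, false, true]),
  (318, 1, [false, false, false, true, false, true, false, false, false, true, false, false, false, false, true, false]),
  (318, 6, [false, false, false, true, false, true, false, true, false, false, false, false, false, false, false, true, false, false, false, true, false, false, false, false]),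
  (318, 7, [false, false, false, true, false, false, true, false, false, false, false, false, false, false, true, false, false, false, true, false, false, false, false]),
  (322, 1, [false, false, false, true, false, true, false, true, false, false, false, false, true, false, true, false, false, false, true, false, true, false, true]),
  (322, 6, [false, false, false, true, false, true, false, false, false, true, false, false, false, true, false, true, false, false, false, true, false, true]),
  (322, 7, [true, false, true, false, true, false, true, false, false]),
  (323, 1, [false, false, false, false, false, false, true, false, true, false, false, true, false, true, false, false, false, false, false, false, false, false]),
  (323, 6, [false, false, true, false, false, false, true, false, true, false, false, false, false, true, false, false]),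
  (323, 7, [true, false, false, false, false, true, false, true, false, true, false, false, false, false, false, false, false, true, false, false, false, true, false, false, false, true]),
  (327, 1, [false, false, false, false, false, false, true, false, true, false, false, false, false, false, true, false, false, false]),
  (327, 6, [true, false, false, false, false, true, false, false, true, false, false, false, true, false, false, true, false, false, false, false, false, true, false, true]),
  (327, 7, [false, true, false, false, true, false, false, true, false, false, true, false, false, false, false, true, false, true, false, false, false]),
  (331, 1, [true, false, false, false, true, false, false, false, false, true, false, true, false, false, false, true, false, true]),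
  (331, 6, [false, true, false, false, false, true, false, true, false, false, false, true, false, true, false, false, false, true, false, false, false, true]),
  (331, 7, [false, true, false, false, false, false, false, false, false, false, true, false, false, false]),
  (333, 1, [true, false, false, true, false, false, false, false, true, false, true, false, false, false, false, true, false, false, true, false, false]),
  (333, 6, [true, false, false, false, false, false, false, true, false, false, false, false, false, true, false, false, false, true]),
  (333, 7, [true, false, false, false, false, false, true, false, false, false, false, false, true, false, false, true, false, false, false, true, false, false]),
  (338, 1, [true, false, true, false, false, false, true, false, false, false, false, false, true, false, false, false, true, false, false, false, false, true]),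
  (338, 6, [false, false, false, false, false, true, false, false, false, true, false, false, false, false, false, true, false, false, false, true]),
  (338, 7, [false, false, false, true, false, true, false, false, false, false, false, true, false, false, false, false, false, false]),
  (339, 1, [false, true, false, true, false, false, true, false, false, false, true, false, false, true, false, true, false, false, false, false, false, false, false, false]),
  (339, 6, [false, true, false, true, false, true, false, false, true, false, false, false, false, false, false, false, true, false, false, false, true, false]),
  (339, 7, [false, false, false, false, false, true, false, false, false, false, false, true, false, true, false, false, false, false]),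
  (343, 1, [false, false, false, true, false, false, false, false, false, true, false, false, true, false, false, false, true, false, false, true, false, false]),
  (343, 6, [false, true, false, false, true, false, false, true, false, false, false, false, true, false, true, false, false, false, false, true, false]),
  (343, 7, [false, false, false, false, true, false, false, false, false, false, true, false, false, false, false, false]),
  (347, 1, [false, true, false, true, false, false, false, true, false, true, false, true, false, false, false, false, true, false, true, false, false, false, true]),
  (347, 6, [false, true, false, true, false, false, false, true, false, true, false, false, false, true, false, false, false, true, false, true, false, false]),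
  (347, 7, [false, false, false, false, false, false, true, false, false, false, false, true, false, false]),
  (349, 1, [false, false, true, false, true, false, false, true, false, false, true, false, true, false, false, false, false, true, false, true, false, false, true]),
  (349, 6, [false, true, false, true, false, false, false, true, false, false, false, true, false, true, false, false, false, true, false, true, false, false]),
  (349, 7, [false, false, false, false, false, false, false, false, false, false, true, false, false, false]),
  (354, 1, [false, false, false, true, false, false, false, true, false, false, false, false, false, false, false, true, false, false, true, false, false, false, false]),
  (354, 6, [true, false, false, false, false, true, false, false, false, true, false, true, false, false, false, false]),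
  (354, 7, [false, false, false, true, false, false, false, true, false, false, false, false, false, false, false, true, false, true, false, true, false, false, false, false]),
  (355, 1, [false, false, false, true, false, false, true, false, true, false, false, false, false, false, true, false, true, false, false, true, false, false]),
  (355, 6, [false, true, false, false, false, true, false, true, false, false, false, true, false, false, false, true, false, true, false, false, false, true]),
  (355, 7, [true, false, false, true, false, true, false, true, false]),
  (359, 1, [false, false, true, false, false, false, false, false, true, false, false, false, false, false, false, false]),
  (359, 6, [false, true, false, false, false, false, false, true, false, false, true, false, false, false, true, false, false, true, false, false, false, false]),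
  (359, 7, [true, false, false, false, true, false, false, true, false, false, true, false, false, true, false, false, false, false, true, false, true, false, true]),
  (363, 1, [true, false, false, true, false, false, true, false, false, false, false, true, false, true, false, false, false, false, true, false, false]),
  (363, 6, [false, false, false, true, false, false, false, false, false, true, false, false, false, false, false, false]),
  (363, 7, [false, false, true, false, false, false, false, false, true, false, false, true, false, false, false, true, false, false, true, false, false, false]),
  (365, 1, [false, true, false, false, false, true, false, true, false, false, false, false, true, false, false, false]),
  (365, 6, [false, false, false, true, false, false, false, true, false, true, false, false, false, true, false, true, false, false, false, true, false, true]),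
  (365, 7, [true, false, false, false, true, false, false, false, false, false, false, false, false, true, false, true]),
  (372, 1, [false, false, false, false, true, false, false, false, false, true, false, true, false, false, false, true]),
  (372, 6, [false, true, false, true, false, false, false, true, false, true, false, false, false, true, false, true, false, false, false, true, false, false]),
  (372, 7, [false, false, false, false, false, false, false, false, false, false, true, false, true, false, false, true, false, true, false, false, false, false]),
  (373, 1, [true, false, true, false, false, false, false, false, false, false, false, true, false, false, false, true]),
  (373, 6, [false, false, false, true, false, false, false, false, true, false, true, false, false, false, true, false]),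
  (373, 7, [true, false, true, false, false, false, true, false, true, false, false, false, true, false, true, false, false, false, true, false, false, false]),
  (374, 1, [false, false, false, true, false, false, true, false, false, true, false, false, true, false, false, false, false, true, false, true, false]),
  (374, 6, [false, false, false, false, false, false, false, false, true, false, true, false, false, false, false, false, true, false]),
  (374, 7, [true, false, true, false, false, false, false, false, true, false, false, true, false, false, false, true, false, false, true, false, false, false, false, true]),
  (377, 1, [false, false, true, false, false, true, false, false, false, false, false, false, false, true, false, false, false, true, false, false, false, false, false]),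
  (377, 6, [false, false, true, false, true, false, false, false, true, false, false, false, false, true, false, false]),
  (377, 7, [true, false, false, false, false, false, false, true, false, false, false, false, false, false, false, true]),
  (382, 1, [false, false, false, false, false, false, true, false, false, false, false, false, true, false, true, false, false, false]),
  (382, 6, [true, false, false, false, false, true, false, false, false, true, false, false, false, false, false, true, false, false, false, true, false, true]),
  (382, 7, [true, false, false, false, true, false, false, false, false, false, true, false, false, false, true, false, false, false, false, false]),
  (384, 1, [false, false, false, true, false, true, false, true, false, false, false, true, false, true, false, false, false, false, true, false, true, false, true]),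
  (384, 6, [false, false, false, true, false, true, false, false, false, true, false, true, false, false, false, true, false, false, false, true, false, true]),
  (384, 7, [false, false, false, false, false, false, false, false, true, false, false, false, false, true]),
  (402, 1, [false, false, false, false, true, false, false, false, true, false, false, false, false, false, false, false, true, false, true, false, true, false, false, false]),
  (402, 6, [false, false, false, false, true, false, false, false, true, false, false, false, false, false, false, false, true, false, false, true, false, false, false]),
  (402, 7, [false, true, false, false, false, false, true, false, false, false, true, false, true, false, false, false]),
  (403, 1, [false, false, false, false, true, false, false, false, true, false, false, false, false, false, true, false, false, false, true, false]),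
  (403, 6, [false, false, true, false, true, false, false, false, false, false, true, false, false, false, false, false, false, false]),
  (403, 7, [true, false, false, false, false, false, false, true, false, false, false, false, false, true, false, true, false, false, false, true]),
  (407, 1, [false, false, false, false, false, false, false, false, false, true, false, true, false, false, true, false, false, false, true, false, false, true, false, true]),
  (407, 6, [true, false, false, true, false, false, true, false, false, true, false, false, false, false, true, false, true, false, false, false, false]),
  (407, 7, [false, false, false, false, false, true, false, true, false, false, false, false, false, true, false, false, false, false]),
  (411, 1, [false, false, true, false, false, false, true, false, true, false, false, false, true, false, true, false, false, false, true, false, true, false]),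
  (411, 6, [false, false, false, false, true, false, false, false, true, false, false, false, false, false, true, false, false, true, false, false, true, false]),
  (411, 7, [true, false, false, false, false, false, false, false, true, false, false, false, false, true, false, true]),
  (413, 1, [false, false, false, true, false, false, false, true, false, false, false, false, false, true, false, false, true, false, false, true, false, false]),
  (413, 6, [false, false, false, false, true, false, false, false, true, false, false, false, false, false, true, false, false, true, false, true, false, false, true, false]),
  (413, 7, [false, false, false, false, true, false, false, false, false, true, false, false, true, false, false, true]),
  (416, 1, [false, true, false, true, false, false, false, false, true, false, true, false, false, false, true, false, true, false, true, false, false, false, true]),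
  (416, 6, [false, true, false, false, false, true, false, false, false, true, false, true, false, false, false, true, false, true, false, false, false, true]),
  (416, 7, [false, false, false, false, true, false, false, false, false, false, false, false, false, true]),
  (436, 1, [false, false, false, true, false, false, false, false, false, false, false, false, true, false]),
  (436, 6, [true, false, true, false, false, false, true, false, true, false, false, false, false, true, false, false, false, true]),
  (436, 7, [true, false, false, false, true, false, false, false, true, false, true, false, false, false, true, false, true, false, false, false, true, false]),
  (437, 1, [false, false, false, false, false, false, false, true, false, false, false, false, true, false]),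
  (437, 6, [false, false, true, false, true, false, true, false, false, false, true, false, true, false, false, false, false, true, false, true, false, true, false]),
  (437, 7, [false, false, true, false, true, false, false, false, true, false, true, false, false, false, true, false, false, false, true, false, true, false]),
  (438, 1, [true, false, true, false, false, true, false, false, true, false, false, true, false, false, false, false, true, false, true, false, false, false, true]),
  (438, 6, [false, false, false, false, false, false, false, true, false, false, false, false, false, true, false, false]),
  (438, 7, [false, false, false, false, true, false, false, true, false, false, false, true, false, false, true, false, false, false, false, false, true, false]),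
  (441, 1, [true, false, false, false, true, false, true, false, false, false, false, false, true, false, false, false, false, false, false, true]),
  (441, 6, [false, true, false, false, false, true, false, false, false, false, false, true, false, false, false, true, false, false, false, false]),
  (441, 7, [false, false, false, false, false, false, false, true, false, false, false, false, false, true, false, true, false, false]),
  (446, 1, [false, false, true, false, false, true, false, true, false, false, true, false, false, true, false, false, false, true, false, false, true, false, true]),
  (446, 6, [false, true, false, false, true, false, false, true, false, true, false, false, true, false, true, false, true]),
  (446, 7, [false, false, false, false, false, false, false, true, false, false, false, false, false, false]),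
  (448, 1, [false, false, false, false, false, false, false, false, true, false, false, false, false, false, true, false]),
  (448, 6, [false, false, false, false, false, true, false, false, true, false, false, false, true, false, false, true, false, false, false, false, false, true]),
  (448, 7, [false, true, false, false, false, true, false, true, false, false, false, true, false, true, false, false, false, true, false, false, false, false, false, false, false]),
  (468, 1, [false, false, true, false, false, true, false, false, true, false, false, false, false, true, false, false]),
  (468, 6, [true, false, true, false, false, true, false, true, false]),
  (468, 7, [false, false, false, true, false, false, true, false, false, false, true, false, false, false, false, false, true, false, false, true, false, true, false, false]),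
  (469, 1, [false, false, true, false, false, false, false, false, true, false, false, false, false, false, true, false, false, true, false, false, false, true]),
  (469, 6, [false, false, true, false, false, true, false, false, false, false, true, false, true, false, false, false, false, true, false, false, true]),
  (469, 7, [true, false, false, false, true, false, false, false, false, false, true, false, false, false, false, false, false, true]),
  (470, 1, [false, false, false, false, false, false, false, false, false, true, false, true, false, false, false, false, false, true]),
  (470, 6, [true, false, false, false, true, false, false, false, false, false, true, false, false, true, false, false, false, true, false, false, true, false, false, true]),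
  (470, 7, [false, false, false, false, true, false, false, true, false, false, true, false, false, true, false, false, false, false, true, false, true]),
  (473, 1, [false, false, false, false, true, false, true, false, false, false, false, false, true, false, false, false, false, false]),
  (473, 6, [false, false, false, false, false, false, false, false, true, false, true, false, false, true, false, false, false, true, false, false, true, false, true, false]),
  (473, 7, [false, true, false, false, false, true, false, false, false, false, false, false, false, true, false, false, true, false, true, false, true, false]),
  (478, 1, [false, false, false, false, true, false, true, false, true, false, false, false, false, false, false, false, true, false, false, false, true, false, false, false]),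
  (478, 6, [false, false, false, false, true, false, false, true, false, false, false, false, false, false, false, true, false, false, false, true, false, false, false]),
  (478, 7, [false, false, false, false, true, false, true, false, false, false, true, false, false, false, false, true]),
  (482, 1, [true, false, false, true, false, false, true, false, true, false, false, true, false, true, false, true, false]),
  (482, 6, [false, false, false, false, false, false, true, false, false, false, false, false, false, false]),
  (482, 7, [false, true, false, false, true, false, true, false, false, true, false, false, true, false, false, false, true, false, false, true, false, true, false]),
  (483, 1, [false, false, true, false, false, false, false, true, false, false, false, true, false, true, false, false]),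
  (483, 6, [true, false, false, false, false, false, false, false, true, false, false, false, false, false, false, true]),
  (483, 7, [false, false, false, false, false, true, false, false, false, true, false, false, false, false, false, false, false, true, false, false, true, false, false]),
  (487, 1, [true, false, false, true, false, true, false, false, true, false, false, true, false, true, false, true, false]),
  (487, 6, [false, false, true, false, false, true, false, false, false, true, false, false, false, false, false, true, false, false, true, false, true, false, false, false]),
  (487, 7, [false, true, false, false, true, false, false, true, false, false, false, false, true, false, false, false]),
  (491, 1, [false, true, false, true, false, false, true, false, true]),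
  (491, 6, [false, false, false, false, true, false, false, true, false, false, false, true, false, false, false, false, false, true, false, false, true, false, true, false]),
  (491, 7, [false, false, false, true, false, false, true, false, false, true, false, false, false, false, true, false]),
  (493, 1, [false, true, false, false, true, false, true, false, true]),
  (493, 6, [false, false, false, false, true, false, false, true, false, true, false, false, false, false, false, true, false, true, false, false, true, false]),
  (493, 7, [true, false, false, true, false, false, true, false, false, true, false, false, false, false, true, false, false, true]),
  (496, 1, [false, false, true, false, false, false, true, false, false, false, false, false, true, false, false, false, true, false, false, false]),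
  (496, 6, [true, false, false, false, false, false, true, false, false, false, false, false, false, false, false, true]),
  (496, 7, [false, false, true, false, true, false, false, true, false, false, true, false, false, false, true, false, false, true, false, true, false, false, true])]

end CfsgLib.Spectrum.U34
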