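import Mathlib
import Cfsg.Agent.Lib.Spectrum.U34.Tables

/-!
The field with 16 elements as a table, and arithmetic of three-by-three matrices over it.
-/

set_option autoImplicit false

namespace CfsgLib.Spectrum.U34

/-- The field with 16 elements. -/
structure K16 where
  /-- The number of the element. -/
  val : Fin 16
deriving DecidableEq

/-- The element with a given number, read modulo 16. -/
def k16 (n : ℕ) : K16 := ⟨⟨n % 16, Nat.mod_lt _ (by norm_num)⟩⟩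

/-- Entry `i` of a table with `w` bits for each entry. -/
def look (t w i : ℕ) : ℕ := (t >>> (w * i)) % 2 ^ w

instance : Fintype K16 := Fintype.ofEquiv (Fin 16) ⟨K16.mk, K16.val, fun _ => rfl, fun _ => rfl⟩

instance : Zero K16 := ⟨k16 0⟩
instance : One K16 := ⟨k16 1⟩
instance : Add K16 := ⟨fun a b => k16 (a.val.val ^^^ b.val.val)⟩
instance : Neg K16 := ⟨fun a => a⟩
instance : Mul K16 := ⟨fun a b => k16 (look mulTab 4 (16 * a.val.val + b.val.val))⟩
instance : Inv K16 := ⟨fun a => k16 (look invTab 4 a.val.val)⟩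

/-- The fourth power. -/
def frob (a : K16) : K16 := k16 (look frobTab 4 a.val.val)

theorem forall_k16 {p : K16 → Prop} (h : ∀ a : Fin 16, p ⟨a⟩) : ∀ a, p a := fun a => h a.val

theorem laws₃ : ∀ a b c : Fin 16, ((⟨a⟩ : K16) + ⟨b⟩ + ⟨c⟩ = ⟨a⟩ + (⟨b⟩ + ⟨c⟩)) ∧
    ((⟨a⟩ : K16) * ⟨b⟩ * ⟨c⟩ = ⟨a⟩ * (⟨b⟩ * ⟨c⟩)) ∧
    ((⟨a⟩ : K16) * (⟨b⟩ + ⟨c⟩) = ⟨a⟩ * ⟨b⟩ + ⟨a⟩ * ⟨c⟩) := by
  decide +kernel

theorem laws₂ : ∀ a b : Fin 16, ((⟨a⟩ : K16) + ⟨b⟩ = ⟨b⟩ + ⟨a⟩) ∧ ((⟨a⟩ : K16) * ⟨b⟩ = ⟨b⟩ * ⟨a⟩) := by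
  decide +kernel

theorem laws₁ : ∀ a : Fin 16, ((⟨a⟩ : K16) + 0 = ⟨a⟩) ∧ ((⟨a⟩ : K16) * 1 = ⟨a⟩) ∧
    ((⟨a⟩ : K16) * 0 = 0) ∧ (-(⟨a⟩ : K16) + ⟨a⟩ = 0) ∧
    ((⟨a⟩ : K16) ≠ 0 → (⟨a⟩ : K16) * (⟨a⟩ : K16)⁻¹ = 1) := by
  decide +kernel

instance : CommRing K16 where
  add_assoc a b c := (laws₃ a.val b.val c.val).1
  mul_assoc a b c := (laws₃ a.val b.val c.val).2.1
  left_distrib a b c := (laws₃ a.val b.val c.val).2.2
  right_distrib a b c := by
    change (a + b) * c = a * c + b * c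
    rw [(laws₂ (a + b).val c.val).2, (laws₃ c.val a.val b.val).2.2, (laws₂ c.val a.val).2, (laws₂ c.val b.val).2]
  add_comm a b := (laws₂ a.val b.val).1
  mul_comm a b := (laws₂ a.val b.val).2
  add_zero a := (laws₁ a.val).1
  zero_add a := ((laws₂ (0 : K16).val a.val).1).trans (laws₁ a.val).1
  mul_one a := (laws₁ a.val).2.1
  one_mul a := ((laws₂ (1 : K16).val a.val).2).trans (laws₁ a.val).2.1
  mul_zero a := (laws₁ a.val).2.2.1
  zero_mul a := ((laws₂ (0 : K16).val a.val).2).trans (laws₁ a.val).2.2.1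
  neg_add_cancel a := (laws₁ a.val).2.2.2.1
  nsmul := nsmulRec
  zsmul := zsmulRec

instance : Field K16 where
  exists_pair_ne := ⟨0, 1, by decide +kernel⟩
  mul_inv_cancel a ha := (laws₁ a.val).2.2.2.2 ha
  inv_zero := by decide +kernel
  nnqsmul := _
  qsmul := _

theorem card_k16 : Fintype.card K16 = 16 := by decide +kernel

theorem two_eq_zero (a : K16) : a + a = 0 := (laws₁ a.val).2.2.2.1

theorem pow_four (a : K16) : a ^ 4 = frob a := by
  have h : ∀ a : Fin 16, (⟨a⟩ : K16) * ⟨a⟩ * ⟨a⟩ * ⟨a⟩ = frob ⟨a⟩ := by decide +kernel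
  rw [← h a.val]
  ring

theorem frob_add (a b : K16) : frob (a + b) = frob a + frob b := by
  have h : ∀ a b : Fin 16, frob ((⟨a⟩ : K16) + ⟨b⟩) = frob ⟨a⟩ + frob ⟨b⟩ := by decide +kernel
  exact h a.val b.val

theorem frob_mul (a b : K16) : frob (a * b) = frob a * frob b := by
  rw [← pow_four, ← pow_four, ← pow_four, mul_pow]

/-- Triples. -/
abbrev T3 : Type := K16 × K16 × K16

/-- Matrices, by rows. -/
abbrev M3 : Type := T3 × T3 × T3

/-- The vector of a triple. -/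
def vec (v : T3) : Fin 3 → K16 := ![v.1, v.2.1, v.2.2]

/-- The matrix of a triple of rows. -/
def mat (A : M3) : Matrix (Fin 3) (Fin 3) K16 := !![A.1.1, A.1.2.1, A.1.2.2; A.2.1.1, A.2.1.2.1, A.2.1.2.2; A.2.2.1, A.2.2.2.1, A.2.2.2.2]

/-- The dot product. -/
def dot (u v : T3) : K16 := u.1 * v.1 + u.2.1 * v.2.1 + u.2.2 * v.2.2

/-- The columns of a matrix. -/
def tr (A : M3) : M3 :=
  ((A.1.1, A.2.1.1, A.2.2.1), (A.1.2.1, A.2.1.2.1, A.2.2.2.1), (A.1.2.2, A.2.1.2.2, A.2.2.2.2))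

/-- A matrix applied to a vector. -/
def act (A : M3) (v : T3) : T3 := (dot A.1 v, dot A.2.1 v, dot A.2.2 v)

/-- The product of two matrices. -/
def mul3 (A B : M3) : M3 := (act (tr B) A.1, act (tr B) A.2.1, act (tr B) A.2.2)

/-- The identity matrix. -/
def one3 : M3 := ((1, 0, 0), (0, 1, 0), (0, 0, 1))

theorem mat_one3 : mat one3 = 1 := by
  ext i j
  fin_cases i <;> fin_cases j <;> rfl

theorem mat_act (A : M3) (v : T3) : Matrix.mulVec (mat A) (vec v) = vec (act A v) := by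
  funext i
  fin_cases i <;> simp [mat, vec, act, dot, Matrix.mulVec, dotProduct, Fin.sum_univ_three] <;> ring

theorem mat_mul3 (A B : M3) : mat (mul3 A B) = mat A * mat B := by
  ext i j
  fin_cases i <;> fin_cases j <;>
    simp [mat, mul3, act, dot, tr, Matrix.mul_apply, Fin.sum_univ_three] <;> ring

theorem mat_injective : Function.Injective mat := by
  intro A B h
  have h' := fun i j => congrFun (congrFun h i) j
  have h00 := h' 0 0; have h01 := h' 0 1; have h02 := h' 0 2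
  have h10 := h' 1 0; have h11 := h' 1 1; have h12 := h' 1 2
  have h20 := h' 2 0; have h21 := h' 2 1; have h22 := h' 2 2
  simp only [mat, Matrix.of_apply, Matrix.cons_val', Matrix.cons_val_zero, Matrix.cons_val_one,
    Matrix.cons_val, Matrix.cons_val_fin_one] at h00 h01 h02 h10 h11 h12 h20 h21 h22
  simp only [Prod.ext_iff]
  tauto

/-- The Hermitian product of two vectors. -/
def herm (u v : T3) : K16 := u.1 * frob v.1 + u.2.1 * frob v.2.1 + u.2.2 * frob v.2.2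

/-- Scalar multiples. -/
def smul3 (c : K16) (v : T3) : T3 := (c * v.1, c * v.2.1, c * v.2.2)

theorem vec_smul3 (c : K16) (v : T3) : vec (smul3 c v) = c • vec v := by
  funext i
  fin_cases i <;> simp [vec, smul3]

theorem exists_vec (u : Fin 3 → K16) : ∃ v, u = vec v :=
  ⟨(u 0, u 1, u 2), by funext i; fin_cases i <;> rfl⟩

/-- Powers of a matrix. -/
def pow3 (A : M3) : ℕ → M3
  | 0 => one3
  | n + 1 => mul3 (pow3 A n) A

theorem mat_pow3 (A : M3) : ∀ n, mat (pow3 A n) = mat A ^ n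
  | 0 => by rw [pow3, mat_one3, pow_zero]
  | n + 1 => by rw [pow3, mat_mul3, mat_pow3 A n, pow_succ]

end CfsgLib.Spectrum.U34
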