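import Mathlib
import Cfsg.Prelude.Def_Classical
import Cfsg.Agent.Lib.Spectrum.U34.Field
import Cfsg.Agent.Lib.Classical.UnitaryPSU

/-!
Two generators of `SU₃(4)`, and elements of orders ten and fifteen.
-/

set_option autoImplicit false

namespace CfsgLib.Spectrum.U34

open Matrix Cfsg

/-- The rows preserve the Hermitian form. -/
def gram (A : M3) : Bool :=
  decide (herm (tr A).1 (tr A).1 = 1) && decide (herm (tr A).2.1 (tr A).2.1 = 1) &&
    decide (herm (tr A).2.2 (tr A).2.2 = 1) && decide (herm (tr A).1 (tr A).2.1 = 0) &&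
    decide (herm (tr A).1 (tr A).2.2 = 0) && decide (herm (tr A).2.1 (tr A).1 = 0) &&
    decide (herm (tr A).2.1 (tr A).2.2 = 0) && decide (herm (tr A).2.2 (tr A).1 = 0) &&
    decide (herm (tr A).2.2 (tr A).2.1 = 0)

/-- The determinant. -/
def det3 (A : M3) : K16 :=
  A.1.1 * (A.2.1.2.1 * A.2.2.2.2 + A.2.1.2.2 * A.2.2.2.1) + A.1.2.1 * (A.2.1.1 * A.2.2.2.2 + A.2.1.2.2 * A.2.2.1) +
    A.1.2.2 * (A.2.1.1 * A.2.2.2.1 + A.2.1.2.1 * A.2.2.1)

theorem det_mat (A : M3) : (mat A).det = det3 A := by
  have hn : ∀ x : K16, -x = x := fun _ => rfl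
  rw [Matrix.det_fin_three]
  simp only [mat, det3, sub_eq_add_neg, hn, Matrix.of_apply, Matrix.cons_val', Matrix.cons_val_zero,
    Matrix.cons_val_one, Matrix.cons_val, Matrix.cons_val_fin_one]
  ring

theorem hermForm_vec (u v : T3) : hermForm 3 K16 4 (vec u) (vec v) = herm u v := by
  simp [hermForm, herm, vec, Fin.sum_univ_three, pow_four]

theorem gram_sound {A : M3} (h : gram A = true) (u v : Fin 3 → K16) :
    hermForm 3 K16 4 (mat A *ᵥ u) (mat A *ᵥ v) = hermForm 3 K16 4 u v := by
  obtain ⟨u, rfl⟩ := exists_vec u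
  obtain ⟨v, rfl⟩ := exists_vec v
  rw [mat_act, mat_act, hermForm_vec, hermForm_vec]
  simp only [gram, Bool.and_eq_true, decide_eq_true_eq] at h
  simp only [herm, tr] at h
  obtain ⟨⟨⟨⟨⟨⟨⟨⟨h11, h22⟩, h33⟩, h12⟩, h13⟩, h21⟩, h23⟩, h31⟩, h32⟩ := h
  simp only [herm, act, dot, frob_add, frob_mul]
  linear_combination (u.1 * frob v.1) * h11 + (u.2.1 * frob v.2.1) * h22 + (u.2.2 * frob v.2.2) * h33 +
    (u.1 * frob v.2.1) * h12 + (u.1 * frob v.2.2) * h13 + (u.2.1 * frob v.1) * h21 +
    (u.2.1 * frob v.2.2) * h23 + (u.2.2 * frob v.1) * h31 + (u.2.2 * frob v.2.1) * h32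

theorem gram_complete {A : M3} (h : ∀ u v : Fin 3 → K16,
    hermForm 3 K16 4 (mat A *ᵥ u) (mat A *ᵥ v) = hermForm 3 K16 4 u v) : gram A = true := by
  have h' : ∀ u v : T3, herm (act A u) (act A v) = herm u v := fun u v => by
    rw [← hermForm_vec, ← hermForm_vec, ← mat_act, ← mat_act, h]
  have hc : act A (1, 0, 0) = (tr A).1 ∧ act A (0, 1, 0) = (tr A).2.1 ∧ act A (0, 0, 1) = (tr A).2.2 := by
    refine ⟨?_, ?_, ?_⟩ <;> simp [act, dot, tr]
  have e0 : frob (0 : K16) = 0 := rfl
  have e1 : frob (1 : K16) = 1 := rfl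
  simp only [gram, Bool.and_eq_true, decide_eq_true_eq]
  rw [← hc.1, ← hc.2.1, ← hc.2.2]
  simp only [h']
  simp [herm, e0, e1]

/-- The group. -/
abbrev SU34 : Type := ↥(SU 3 K16 4)

/-- The matrix of an element. -/
def toMat : SU34 →* Matrix (Fin 3) (Fin 3) K16 := (slToMat 3 K16).comp (SU 3 K16 4).subtype

theorem toMat_injective : Function.Injective toMat := fun _ _ h => Subtype.ext (Subtype.ext h)

theorem exists_elem {A : M3} (h : gram A = true) (hd : det3 A = 1) : ∃ g : SU34, toMat g = mat A :=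
  ⟨⟨⟨mat A, by rw [det_mat, hd]⟩, fun u v => gram_sound h u v⟩, rfl⟩

/-- The first generator, of order thirteen. -/
def genA : M3 := ((k16 0, k16 0, k16 1), (k16 2, k16 9, k16 0), (k16 14, k16 3, k16 0))

/-- The second generator. -/
def genB : M3 := ((k16 0, k16 0, k16 1), (k16 0, k16 1, k16 0), (k16 1, k16 0, k16 0))

/-- An element of order ten. -/
def ten : M3 := ((k16 0, k16 8, k16 0), (k16 8, k16 0, k16 0), (k16 0, k16 0, k16 10))

/-- An element of order fifteen. -/
def fifteen : M3 := ((k16 3, k16 6, k16 0), (k16 14, k16 11, k16 0), (k16 0, k16 0, k16 10))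

theorem elems_check : gram genA = true ∧ det3 genA = 1 ∧ gram genB = true ∧ det3 genB = 1 ∧
    gram ten = true ∧ det3 ten = 1 ∧ gram fifteen = true ∧ det3 fifteen = 1 := by
  decide +kernel

theorem ten_check : decide (pow3 ten 10 = one3) && !decide (pow3 ten 5 = one3) && !decide (pow3 ten 2 = one3) := by
  decide +kernel

theorem fifteen_check :
    decide (pow3 fifteen 15 = one3) && !decide (pow3 fifteen 5 = one3) && !decide (pow3 fifteen 3 = one3) := by
  decide +kernel

theorem genA_check : decide (pow3 genA 13 = one3) && !decide (genA = one3) := by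
  decide +kernel

theorem pow_eq_one_iff {g : SU34} {A : M3} (h : toMat g = mat A) (n : ℕ) : g ^ n = 1 ↔ pow3 A n = one3 := by
  rw [← toMat_injective.eq_iff, map_pow, map_one, h, ← mat_pow3, ← mat_one3, mat_injective.eq_iff]

/-- The transvection `x ↦ x + c ⟨x, v⟩ v`. -/
def trans3 (v : T3) (c : K16) : M3 :=
  ((1 + c * v.1 * frob v.1, c * v.1 * frob v.2.1, c * v.1 * frob v.2.2),
   (c * v.2.1 * frob v.1, 1 + c * v.2.1 * frob v.2.1, c * v.2.1 * frob v.2.2),
   (c * v.2.2 * frob v.1, c * v.2.2 * frob v.2.1, 1 + c * v.2.2 * frob v.2.2))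

theorem mat_trans3 (v : T3) (c : K16) : mat (trans3 v c) = unitaryTransvection 3 4 (vec v) c := by
  ext i j
  fin_cases i <;> fin_cases j <;>
    simp [mat, trans3, vec, unitaryTransvection, Matrix.vecMulVec, Matrix.one_apply, pow_four] <;> ring

theorem trans3_smul (l : K16) (v : T3) (c : K16) :
    trans3 (smul3 l v) c = trans3 v (c * l * frob l) := by
  simp only [trans3, smul3, frob_mul, Prod.ext_iff]
  refine ⟨⟨?_, ?_, ?_⟩, ⟨?_, ?_, ?_⟩, ?_, ?_, ?_⟩ <;> ring

/-- The triple with a given code. -/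
def decode (n : ℕ) : T3 := (k16 (n / 256), k16 (n / 16), k16 n)

/-- The code of a triple. -/
def encode (v : T3) : ℕ := 256 * v.1.val.val + 16 * v.2.1.val.val + v.2.2.val.val

/-- The first nonzero coordinate, or zero. -/
def lead (v : T3) : K16 := if v.1 = 0 then (if v.2.1 = 0 then v.2.2 else v.2.1) else v.1

/-- The value of a word in the two generators. -/
def evalWord : List Bool → M3
  | [] => one3
  | b :: w => mul3 (if b then genB else genA) (evalWord w)

theorem transvections_check : ((List.range 65).all fun i => (List.range 16).all fun c =>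
    decide (c = 0) || (if frob (k16 c) = k16 c then
      wordList.any (fun r => decide (r.1 = isoList.getD i 0) && decide (r.2.1 = c))
    else !gram (trans3 (decode (isoList.getD i 0)) (k16 c)))) = true := by
  decide +kernel

theorem words_check : (wordList.all fun r =>
    decide (evalWord r.2.2 = trans3 (decode r.1) (k16 r.2.1))) = true := by
  decide +kernel

theorem iso_check : ((List.range 16).all fun a => (List.range 16).all fun b => (List.range 16).all fun c =>
    decide (herm (k16 a, k16 b, k16 c) (k16 a, k16 b, k16 c) ≠ 0) || decide (256 * a + 16 * b + c = 0) ||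
      isoList.elem (encode (smul3 (lead (k16 a, k16 b, k16 c))⁻¹ (k16 a, k16 b, k16 c)))) = true := by
  decide +kernel

theorem iso_length : isoList.length = 65 := rfl

theorem k16_val (x : K16) : k16 x.val.val = x := by
  obtain ⟨⟨x, hx⟩⟩ := x
  simp [k16, Nat.mod_eq_of_lt hx]

theorem decode_encode (v : T3) : decode (encode v) = v := by
  obtain ⟨⟨a, ha⟩, ⟨b, hb⟩, ⟨c, hc⟩⟩ := v
  have h1 : (256 * a + 16 * b + c) / 256 % 16 = a := by omega
  have h2 : (256 * a + 16 * b + c) / 16 % 16 = b := by omega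
  have h3 : (256 * a + 16 * b + c) % 16 = c := by omega
  simp only [decode, encode, k16, h1, h2, h3]

theorem encode_lt (v : T3) : encode v < 4096 := by
  have := v.1.val.isLt; have := v.2.1.val.isLt; have := v.2.2.val.isLt
  unfold encode; omega

/-- The two generators and their properties. -/
theorem exists_generators : ∃ a b : SU34, toMat a = mat genA ∧ toMat b = mat genB ∧
    Subgroup.closure ({a, b} : Set SU34) = ⊤ := by
  obtain ⟨ha, ha', hb, hb', -⟩ := elems_check
  obtain ⟨a, hA⟩ := exists_elem ha ha'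
  obtain ⟨b, hB⟩ := exists_elem hb hb'
  refine ⟨a, b, hA, hB, ?_⟩
  have hword : ∀ w : List Bool, ∃ g ∈ Subgroup.closure ({a, b} : Set SU34), toMat g = mat (evalWord w) := by
    intro w
    induction w with
    | nil => exact ⟨1, one_mem _, by rw [map_one, evalWord, mat_one3]⟩
    | cons x w ih =>
      obtain ⟨g, hg, hgm⟩ := ih
      cases x
      · exact ⟨a * g, mul_mem (Subgroup.subset_closure (by simp)) hg, by
          rw [map_mul, hgm, hA, evalWord, mat_mul3]; simp⟩
      · exact ⟨b * g, mul_mem (Subgroup.subset_closure (by simp)) hg, by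
          rw [map_mul, hgm, hB, evalWord, mat_mul3]; simp⟩
  rw [eq_top_iff, ← CfsgLib.Classical.Unitary.su_closure_transvections (n := 3) (F := K16) (q := 4)
    (by rw [card_k16]; norm_num) le_rfl (by norm_num), Subgroup.closure_le]
  rintro g ⟨u, c, hu, hg⟩
  obtain ⟨v, rfl⟩ := exists_vec u
  have hg' : toMat g = mat (trans3 v c) := by rw [mat_trans3, ← hg]; rfl
  have hmem1 : toMat g = mat one3 → g ∈ Subgroup.closure ({a, b} : Set SU34) := fun h => by
    rw [mat_one3, ← map_one toMat] at h
    rw [toMat_injective h]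
    exact one_mem _
  rw [hermForm_vec] at hu
  have hn := List.all_eq_true.1 (List.all_eq_true.1 (List.all_eq_true.1 iso_check v.1.val.val
    (List.mem_range.2 (Fin.isLt _))) v.2.1.val.val (List.mem_range.2 (Fin.isLt _))) v.2.2.val.val
    (List.mem_range.2 (Fin.isLt _))
  simp only [k16_val, Bool.or_eq_true, decide_eq_true_eq, List.elem_iff] at hn
  rcases hn with (h | h) | h
  · exact absurd hu h
  · refine hmem1 (hg'.trans ?_)
    have : v = (0, 0, 0) := by rw [← decode_encode v, encode, h]; rfl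
    subst this
    have e0 : frob (0 : K16) = 0 := rfl
    simp [trans3, one3, e0]
  · obtain ⟨i, hi, hiv⟩ := List.getElem_of_mem h
    set l := lead v with hl
    rcases eq_or_ne l 0 with hl0 | hl0
    · refine hmem1 (hg'.trans ?_)
      have h0 : v.1 = 0 ∧ v.2.1 = 0 ∧ v.2.2 = 0 := by
        rw [hl, lead] at hl0
        split_ifs at hl0 with h1 h2
        · exact ⟨h1, h2, hl0⟩
        · exact absurd hl0 h2
        · exact absurd hl0 h1
      have e0 : frob (0 : K16) = 0 := rfl
      simp [trans3, one3, e0, h0.1, h0.2.1, h0.2.2]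
    set w := smul3 l⁻¹ v with hw
    have hv : v = smul3 l w := by
      simp only [hw, smul3, ← mul_assoc, mul_inv_cancel₀ hl0, one_mul]
    have hgw : toMat g = mat (trans3 w (c * l * frob l)) := by rw [hg', hv, trans3_smul]
    have hdec : decode (isoList.getD i 0) = w := by
      rw [List.getD_eq_getElem _ _ hi, hiv, decode_encode]
    have hc := List.all_eq_true.1 (List.all_eq_true.1 transvections_check i
      (List.mem_range.2 (iso_length ▸ hi))) (c * l * frob l).val.val (List.mem_range.2 (Fin.isLt _))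
    have hk := k16_val
    simp only [hk, hdec, Bool.or_eq_true, decide_eq_true_eq] at hc
    rcases hc with hc | hc
    · refine hmem1 (hgw.trans ?_)
      have : c * l * frob l = 0 := by rw [← hk (c * l * frob l), hc]; rfl
      simp [trans3, one3, this]
    split_ifs at hc with hf
    · obtain ⟨r, hr, hr'⟩ := List.any_eq_true.1 hc
      simp only [Bool.and_eq_true, decide_eq_true_eq] at hr'
      have he := of_decide_eq_true (List.all_eq_true.1 words_check r hr)
      rw [hr'.1, hr'.2, hdec, hk] at he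
      obtain ⟨g', hg1, hg2⟩ := hword r.2.2
      rwa [toMat_injective (hgw.trans (he ▸ hg2.symm))]
    · rw [gram_complete fun u v => ?_] at hc
      · exact absurd hc (by decide)
      · rw [← hgw]
        exact g.2 u v

theorem exists_orders : (∃ g : SU34, orderOf g = 10) ∧ ∃ g : SU34, orderOf g = 15 := by
  obtain ⟨-, -, -, -, h10, h10', h15, h15'⟩ := elems_check
  have e10 := ten_check
  have e15 := fifteen_check
  simp only [Bool.and_eq_true, Bool.not_eq_true', decide_eq_true_eq, decide_eq_false_iff_not] at e10 e15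
  obtain ⟨⟨a1, a2⟩, a3⟩ := e10
  obtain ⟨⟨b1, b2⟩, b3⟩ := e15
  obtain ⟨g, hg⟩ := exists_elem h10 h10'
  obtain ⟨k, hk⟩ := exists_elem h15 h15'
  have key : ∀ (x : SU34) (n p q : ℕ), p.Prime → q.Prime → n = p * q → x ^ n = 1 → x ^ p ≠ 1 → x ^ q ≠ 1 →
      orderOf x = n := by
    intro x n p q hp hq hn h1 h2 h3
    have hd := orderOf_dvd_of_pow_eq_one h1
    obtain ⟨d, e, hd1, he1, hde⟩ := exists_dvd_and_dvd_of_dvd_mul (hn ▸ hd : orderOf x ∣ p * q)
    have hx : x ^ orderOf x = 1 := pow_orderOf_eq_one x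
    rcases (Nat.dvd_prime hp).1 hd1 with h | h <;> rcases (Nat.dvd_prime hq).1 he1 with h' | h' <;>
      rw [h, h'] at hde
    · exact absurd (orderOf_dvd_iff_pow_eq_one.1 (by rw [hde]; exact one_dvd p)) h2
    · exact absurd (by rwa [hde, one_mul] at hx) h3
    · exact absurd (by rwa [hde, mul_one] at hx) h2
    · rw [hde, hn]
  exact ⟨⟨g, key g 10 5 2 (by norm_num) Nat.prime_two rfl ((pow_eq_one_iff hg 10).2 a1)
      (fun h => a2 ((pow_eq_one_iff hg 5).1 h)) (fun h => a3 ((pow_eq_one_iff hg 2).1 h))⟩,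
    ⟨k, key k 15 5 3 (by norm_num) Nat.prime_three rfl ((pow_eq_one_iff hk 15).2 b1)
      (fun h => b2 ((pow_eq_one_iff hk 5).1 h)) (fun h => b3 ((pow_eq_one_iff hk 3).1 h))⟩⟩

end CfsgLib.Spectrum.U34
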