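import Mathlib
import Cfsg.Agent.Lib.Spectrum.U34.Group

/-!
The tables of the representation, read as functions, and their checks.
-/

set_option autoImplicit false

namespace CfsgLib.Spectrum.U34

/-- The code of point `k` of frame `i`. -/
def frCode (i : Fin 416) (k : Fin 3) : ℕ := look (look frameTab 36 i.val) 12 (2 - k.val)

/-- Point `k` of frame `i`. -/
def frPt (i : Fin 416) (k : Fin 3) : T3 := decode (frCode i k)

/-- The permutations of three letters, in lexicographic order. -/
def permList : List (Equiv.Perm (Fin 3)) :=
  [1, Equiv.swap 1 2, Equiv.swap 0 1, Equiv.swap 0 1 * Equiv.swap 1 2, Equiv.swap 1 2 * Equiv.swap 0 1,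
    Equiv.swap 0 2]

/-- The signs of these permutations, read modulo five. -/
def signList : List ℕ := [1, 4, 4, 1, 1, 4]

/-- The image of a frame. -/
def imgIdx (t : ℕ) (i : Fin 416) : Fin 416 := ⟨look t 12 i.val % 512 % 416, Nat.mod_lt _ (by norm_num)⟩

/-- The number of the permutation of points. -/
def imgPerm (t : ℕ) (i : Fin 416) : ℕ := look t 12 i.val / 512

/-- The value of a basis function. -/
def basN (j : Fin 12) (i : Fin 416) : ℕ := look (look basisTab 36 i.val) 3 j.val

/-- An entry of a twelve-by-twelve table. -/
def entN (t : ℕ) (i j : Fin 12) : ℕ := look t 3 (12 * i.val + j.val)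

/-- The pivot frames. -/
def pivot (j : Fin 12) : Fin 416 := ⟨look pivotTab 9 j.val % 416, Nat.mod_lt _ (by norm_num)⟩

/-- A number below twelve. -/
def f12 (n : ℕ) : Fin 12 := ⟨n % 12, Nat.mod_lt _ (by norm_num)⟩

/-- A number below 416. -/
def f416 (n : ℕ) : Fin 416 := ⟨n % 416, Nat.mod_lt _ (by norm_num)⟩

/-- A sum over twelve indices. -/
def sum12 (f : Fin 12 → ℕ) : ℕ :=
  f 0 + f 1 + f 2 + f 3 + f 4 + f 5 + f 6 + f 7 + f 8 + f 9 + f 10 + f 11

/-- The geometric check for a frame. -/
def pointsOK (g : M3) (t : ℕ) (i : Fin 416) : Bool :=
  decide (imgPerm t i < 6) && ([0, 1, 2] : List (Fin 3)).all fun k =>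
    decide (act g (frPt i k) =
      smul3 (lead (act g (frPt i k))) (frPt (imgIdx t i) (permList.getD (imgPerm t i) 1 k)))

/-- The linear check for a frame. -/
def linOK (t r : ℕ) (i : Fin 416) : Bool :=
  (List.range 12).all fun j => decide ((signList.getD (imgPerm t i) 0 * basN (f12 j) (imgIdx t i)) % 5 =
    sum12 (fun k => entN r (f12 j) k * basN k i) % 5)

theorem pointsA : ((List.range 26).all fun a => (List.range 16).all fun b =>
    pointsOK genA imgATab (f416 (16 * a + b))) = true := by
  decide +kernel

theorem pointsB : ((List.range 26).all fun a => (List.range 16).all fun b =>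
    pointsOK genB imgBTab (f416 (16 * a + b))) = true := by
  decide +kernel

theorem linA : ((List.range 26).all fun a => (List.range 16).all fun b =>
    linOK imgATab repATab (f416 (16 * a + b))) = true := by
  decide +kernel

theorem linB : ((List.range 26).all fun a => (List.range 16).all fun b =>
    linOK imgBTab repBTab (f416 (16 * a + b))) = true := by
  decide +kernel

/-- The check that the frames are listed increasingly with increasing points of leading coordinate one. -/
def sortOK (i : Fin 416) : Bool :=
  decide (frCode i 0 < frCode i 1) && decide (frCode i 1 < frCode i 2) &&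
    ([0, 1, 2] : List (Fin 3)).all (fun k => decide (lead (frPt i k) = 1)) &&
    (decide (i.val = 415) || decide (look frameTab 36 i.val < look frameTab 36 (i.val + 1)))

theorem sortFrames : ((List.range 26).all fun a => (List.range 16).all fun b =>
    sortOK (f416 (16 * a + b))) = true := by
  decide +kernel

/-- The check that a frame is the triple of its points. -/
def splitOK (i : Fin 416) : Bool :=
  decide (look frameTab 36 i.val = 2 ^ 24 * frCode i 0 + 2 ^ 12 * frCode i 1 + frCode i 2)

theorem frame_split : ((List.range 26).all fun a => (List.range 16).all fun b =>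
    splitOK (f416 (16 * a + b))) = true := by
  decide +kernel

theorem pivots : ((List.range 12).all fun j => (List.range 12).all fun k =>
    decide (basN (f12 j) (pivot (f12 k)) = if j = k then 1 else 0)) = true := by
  decide +kernel

theorem fpf : ((List.range 12).all fun i => (List.range 12).all fun j =>
    decide (sum12 (fun k => entN fpfTab (f12 i) k * (entN repATab k (f12 j) + if k = f12 j then 4 else 0)) % 5 =
      if i = j then 1 else 0)) = true := by
  decide +kernel

theorem all416 {p : Fin 416 → Bool}
    (h : ((List.range 26).all fun a => (List.range 16).all fun b => p (f416 (16 * a + b))) = true)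
    (i : Fin 416) : p i = true := by
  have h' := List.all_eq_true.1 (List.all_eq_true.1 h (i.val / 16) (List.mem_range.2 (by omega))) (i.val % 16)
    (List.mem_range.2 (by omega))
  rwa [show f416 (16 * (i.val / 16) + i.val % 16) = i from Fin.ext (by simp only [f416]; omega)] at h'

theorem f12_val (j : Fin 12) : f12 j.val = j := Fin.ext (Nat.mod_eq_of_lt j.isLt)

theorem perm_sign_table : ∀ r : Fin 6,
    ((((Equiv.Perm.sign (permList.getD r.val 1)) : ℤˣ) : ℤ) : ZMod 5) = (signList.getD r.val 0 : ℕ) := by
  decide +kernel

end CfsgLib.Spectrum.U34
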