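import Mathlib
import Cfsg.Agent.Lib.Spectrum.U34.RepData

/-!
A twelve-dimensional representation of `SU₃(4)` over the field with five elements, inside the functions on
frames which change sign under odd permutations of the three points.
-/

set_option autoImplicit false

namespace CfsgLib.Spectrum.U34

open Matrix Cfsg

/-- The point `k` of frame `i`, as a vector. -/
def pt (i : Fin 416) (k : Fin 3) : Fin 3 → K16 := vec (frPt i k)

/-- The sign of a permutation, modulo five. -/
def sg (ρ : Equiv.Perm (Fin 3)) : ZMod 5 := (((Equiv.Perm.sign ρ : ℤˣ) : ℤ) : ZMod 5)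

/-- A basis function. -/
def bas (j : Fin 12) (i : Fin 416) : ZMod 5 := (basN j i : ℕ)

/-- A matrix from a table. -/
def repMat (t : ℕ) : Matrix (Fin 12) (Fin 12) (ZMod 5) := Matrix.of fun i j => ((entN t i j : ℕ) : ZMod 5)

/-- The element `g` moves frames as the matrix `A` moves the basis. -/
def Compat (g : SU34) (A : Matrix (Fin 12) (Fin 12) (ZMod 5)) : Prop :=
  ∀ i : Fin 416, ∃ (i' : Fin 416) (ρ : Equiv.Perm (Fin 3)),
    (∀ k, ∃ c : K16, toMat g *ᵥ pt i k = c • pt i' (ρ k)) ∧
      ∀ j, sg ρ * bas j i' = ∑ k, A j k * bas k i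

theorem sum12_eq (f : Fin 12 → ℕ) : ∑ k, f k = sum12 f := by
  simp [Fin.sum_univ_succ, sum12]
  ring

theorem compat_gen {g : SU34} {m : M3} {t r : ℕ} (hg : toMat g = mat m)
    (hp : ∀ i, pointsOK m t i = true) (hl : ∀ i, linOK t r i = true) : Compat g (repMat r) := by
  intro i
  have h1 := hp i
  have h2 := hl i
  simp only [pointsOK, Bool.and_eq_true, decide_eq_true_eq, List.all_eq_true] at h1
  simp only [linOK, decide_eq_true_eq, List.all_eq_true, List.mem_range] at h2
  refine ⟨imgIdx t i, permList.getD (imgPerm t i) 1, fun k => ⟨lead (act m (frPt i k)), ?_⟩, fun j => ?_⟩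
  · have hk : k ∈ ([0, 1, 2] : List (Fin 3)) := by fin_cases k <;> decide
    rw [hg, pt, mat_act, pt, ← vec_smul3]
    exact congrArg vec (h1.2 k hk)
  · have h3 := h2 j.val j.isLt
    rw [f12_val, ← sum12_eq, ← ZMod.natCast_eq_natCast_iff'] at h3
    simp only [Nat.cast_mul, Nat.cast_sum] at h3
    rw [sg, perm_sign_table ⟨imgPerm t i, h1.1⟩]
    exact h3

theorem compat_one : Compat 1 1 := fun i =>
  ⟨i, 1, fun k => ⟨1, by simp⟩, fun j => by simp [sg, Matrix.one_apply]⟩

theorem compat_mul {g h : SU34} {A B : Matrix (Fin 12) (Fin 12) (ZMod 5)} (hg : Compat g A) (hh : Compat h B) :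
    Compat (g * h) (A * B) := by
  intro i
  obtain ⟨i₁, ρ₁, hp₁, hl₁⟩ := hh i
  obtain ⟨i₂, ρ₂, hp₂, hl₂⟩ := hg i₁
  refine ⟨i₂, ρ₂ * ρ₁, fun k => ?_, fun j => ?_⟩
  · obtain ⟨c, hc⟩ := hp₁ k
    obtain ⟨d, hd⟩ := hp₂ (ρ₁ k)
    exact ⟨c * d, by rw [map_mul, ← Matrix.mulVec_mulVec, hc, Matrix.mulVec_smul, hd, smul_smul]; rfl⟩
  · calc sg (ρ₂ * ρ₁) * bas j i₂ = sg ρ₁ * (sg ρ₂ * bas j i₂) := by
          simp only [sg, map_mul, Units.val_mul, Int.cast_mul]; ring
      _ = ∑ k, A j k * (sg ρ₁ * bas k i₁) := by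
          rw [hl₂ j, Finset.mul_sum]
          exact Finset.sum_congr rfl fun k _ => by ring
      _ = ∑ k, ∑ l, A j k * (B k l * bas l i) := by
          refine Finset.sum_congr rfl fun k _ => ?_
          rw [hl₁ k, Finset.mul_sum]
      _ = _ := by
          rw [Finset.sum_comm]
          refine Finset.sum_congr rfl fun l _ => ?_
          rw [Matrix.mul_apply, Finset.sum_mul]
          exact Finset.sum_congr rfl fun k _ => by ring

theorem lead_smul {c : K16} (hc : c ≠ 0) (v : T3) : lead (smul3 c v) = c * lead v := by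
  simp only [lead, smul3, mul_eq_zero, hc, false_or]
  split_ifs <;> rfl

theorem vec_injective : Function.Injective vec := by
  intro u v h
  exact Prod.ext (congrFun h 0) (Prod.ext (congrFun h 1) (congrFun h 2))

theorem frame_unique {i₁ i₂ : Fin 416} {ρ₁ ρ₂ : Equiv.Perm (Fin 3)}
    (h : ∀ k, frPt i₁ (ρ₁ k) = frPt i₂ (ρ₂ k)) : i₁ = i₂ ∧ ρ₁ = ρ₂ := by
  have hcode : ∀ i k, frCode i k < 4096 := fun i k => Nat.mod_lt _ (by norm_num)
  have he : ∀ i k, encode (frPt i k) = frCode i k := fun i k => by
    have := hcode i k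
    simp only [frPt, decode, encode, k16]
    omega
  have hs : ∀ i, StrictMono (frCode i) := fun i => by
    have := all416 sortFrames i
    simp only [sortOK, Bool.and_eq_true, decide_eq_true_eq] at this
    obtain ⟨⟨⟨h1, h2⟩, -⟩, -⟩ := this
    intro a b hab
    fin_cases a <;> fin_cases b <;> simp at hab ⊢ <;> omega
  set π : Equiv.Perm (Fin 3) := ρ₁ * ρ₂⁻¹ with hπ
  have h' : ∀ k, frCode i₁ (π k) = frCode i₂ k := fun k => by
    rw [← he, ← he, hπ, Equiv.Perm.mul_apply, h]
    simp
  have hmono : StrictMono π := fun a b hab => (hs i₁).lt_iff_lt.1 (by rw [h', h']; exact hs i₂ hab)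
  have h1 : π = 1 := by
    have : ∀ π : Equiv.Perm (Fin 3), π 0 < π 1 → π 1 < π 2 → π = 1 := by decide +kernel
    exact this π (hmono (by decide)) (hmono (by decide))
  refine ⟨?_, mul_inv_eq_one.1 h1⟩
  have key : ∀ k, frCode i₁ k = frCode i₂ k := fun k => by simpa [h1] using h' k
  have hfr : look frameTab 36 i₁.val = look frameTab 36 i₂.val := by
    have a := all416 frame_split i₁
    have b := all416 frame_split i₂
    simp only [splitOK, decide_eq_true_eq] at a b
    rw [a, b, key, key, key]
  have hmono' : StrictMono (fun i : Fin 416 => look frameTab 36 i.val) := by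
    refine Fin.strictMono_iff_lt_succ.2 fun i => ?_
    have := all416 sortFrames i.castSucc
    simp only [sortOK, Bool.and_eq_true, Bool.or_eq_true, decide_eq_true_eq] at this
    rcases this.2 with h | h
    · simp only [Fin.val_castSucc] at h
      have := i.isLt
      omega
    · simpa using h
  exact hmono'.injective hfr

theorem compat_unique {g : SU34} {A B : Matrix (Fin 12) (Fin 12) (ZMod 5)} (hA : Compat g A) (hB : Compat g B) :
    A = B := by
  have hinj : ∀ u v, toMat g *ᵥ u = toMat g *ᵥ v → u = v := fun u v h => by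
    have := congrArg (toMat g⁻¹ *ᵥ ·) h
    simpa [Matrix.mulVec_mulVec, ← map_mul] using this
  have hlead : ∀ i k, lead (frPt i k) = 1 := fun i k => by
    have := all416 sortFrames i
    simp only [sortOK, Bool.and_eq_true, decide_eq_true_eq, List.all_eq_true] at this
    exact this.1.2 k (by fin_cases k <;> decide)
  have hne : ∀ i k, pt i k ≠ 0 := fun i k h => by
    have : frPt i k = (0, 0, 0) := vec_injective (h.trans (by funext l; fin_cases l <;> rfl))
    have h' := hlead i k
    rw [this] at h'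
    exact absurd h' (by decide +kernel)
  ext j k
  obtain ⟨i₁, ρ₁, hp₁, hl₁⟩ := hA (pivot k)
  obtain ⟨i₂, ρ₂, hp₂, hl₂⟩ := hB (pivot k)
  have heq : i₁ = i₂ ∧ ρ₁ = ρ₂ := by
    refine frame_unique fun l => ?_
    obtain ⟨c, hc⟩ := hp₁ l
    obtain ⟨d, hd⟩ := hp₂ l
    have hc0 : c ≠ 0 := fun h0 => hne (pivot k) l (hinj _ 0 (by rw [hc, h0, zero_smul, Matrix.mulVec_zero]))
    have hd0 : d ≠ 0 := fun h0 => hne (pivot k) l (hinj _ 0 (by rw [hd, h0, zero_smul, Matrix.mulVec_zero]))
    rw [hc, pt, pt, ← vec_smul3, ← vec_smul3] at hd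
    have h3 := vec_injective hd
    have h4 := congrArg lead h3
    rw [lead_smul hc0, lead_smul hd0, hlead, hlead, mul_one, mul_one] at h4
    subst h4
    simp only [smul3, Prod.mk.injEq, mul_right_inj' hc0] at h3
    exact Prod.ext h3.1 (Prod.ext h3.2.1 h3.2.2)
  have hpiv : ∀ l, bas l (pivot k) = if l = k then 1 else 0 := fun l => by
    have := List.all_eq_true.1 (List.all_eq_true.1 pivots l.val (List.mem_range.2 l.isLt)) k.val
      (List.mem_range.2 k.isLt)
    simp only [f12_val, decide_eq_true_eq] at this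
    rw [bas, this]
    by_cases hlk : l = k
    · simp [hlk]
    · simp [hlk, Fin.val_ne_iff.2 hlk]
  have e1 := hl₁ j
  have e2 := hl₂ j
  simp only [hpiv, mul_ite, mul_one, mul_zero, Finset.sum_ite_eq', Finset.mem_univ, if_true] at e1 e2
  rw [← e1, ← e2, heq.1, heq.2]

/-- The representation, and an element of order thirteen without fixed vectors. -/
theorem exists_rep : ∃ (φ : SU34 →* Matrix (Fin 12) (Fin 12) (ZMod 5)) (x : SU34),
    orderOf x = 13 ∧ ∀ v, φ x *ᵥ v = v → v = 0 := by
  obtain ⟨a, b, ha, hb, hgen⟩ := exists_generators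
  have hA := compat_gen ha (all416 pointsA) (all416 linA)
  have hB := compat_gen hb (all416 pointsB) (all416 linB)
  have hall : ∀ g : SU34, ∃ A, Compat g A := by
    intro g
    have hg : g ∈ Submonoid.closure ({a, b} : Set SU34) := by
      rw [← Subgroup.closure_toSubmonoid_of_finite, hgen]
      trivial
    induction hg using Submonoid.closure_induction with
    | mem x hx =>
      rcases hx with rfl | rfl
      · exact ⟨_, hA⟩
      · exact ⟨_, hB⟩
    | one => exact ⟨1, compat_one⟩
    | mul x y _ _ hx hy => exact ⟨_, compat_mul hx.choose_spec hy.choose_spec⟩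
  choose f hf using hall
  let φ : SU34 →* Matrix (Fin 12) (Fin 12) (ZMod 5) :=
    { toFun := f
      map_one' := compat_unique (hf 1) compat_one
      map_mul' := fun g h => compat_unique (hf (g * h)) (compat_mul (hf g) (hf h)) }
  refine ⟨φ, a, ?_, fun v hv => ?_⟩
  · haveI : Fact (Nat.Prime 13) := ⟨by norm_num⟩
    have h13 := genA_check
    simp only [Bool.and_eq_true, Bool.not_eq_true', decide_eq_true_eq, decide_eq_false_iff_not] at h13
    refine orderOf_eq_prime ((pow_eq_one_iff ha 13).2 h13.1) fun h1 => h13.2 (mat_injective ?_)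
    rw [← ha, h1, map_one, mat_one3]
  · have hφ : φ a = repMat repATab := compat_unique (hf a) hA
    have hC : repMat fpfTab * (repMat repATab - 1) = 1 := by
      ext i j
      have h := List.all_eq_true.1 (List.all_eq_true.1 fpf i.val (List.mem_range.2 i.isLt)) j.val
        (List.mem_range.2 j.isLt)
      simp only [f12_val, decide_eq_true_eq, ← sum12_eq] at h
      have h' := congrArg (fun n : ℕ => (n : ZMod 5)) h
      simp only [ZMod.natCast_mod, Nat.cast_sum, Nat.cast_mul, Nat.cast_add] at h'
      rw [Matrix.mul_apply, Matrix.one_apply]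
      convert h' using 1
      · refine Finset.sum_congr rfl fun k _ => ?_
        rw [Matrix.sub_apply, Matrix.one_apply]
        simp only [repMat, Matrix.of_apply, Nat.cast_ite, Nat.cast_zero]
        split_ifs
        · rw [show ((4 : ℕ) : ZMod 5) = -1 from by decide]; ring
        · ring
      · simp [Fin.val_inj]
    rw [hφ] at hv
    calc v = (repMat fpfTab * (repMat repATab - 1)) *ᵥ v := by rw [hC, Matrix.one_mulVec]
      _ = 0 := by rw [← Matrix.mulVec_mulVec, Matrix.sub_mulVec, Matrix.one_mulVec, hv, sub_self, Matrix.mulVec_zero]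

end CfsgLib.Spectrum.U34
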